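import Groth.Agent.Lib.Stein36.Data
import Groth.Agent.H34.Stein.Connected
import Groth.Agent.Lib.Henselian.Pair

/-!
# Closed fibres of closures of points over henselian pairs
-/

universe u

open CategoryTheory CategoryTheory.Limits AlgebraicGeometry TopologicalSpace

namespace Groth.Agent.Lib.TopClosed50.Proper

theorem connectedSpace_quotient {A : Type u} [CommRing A] (I : Ideal A) [HenselianRing A I]
    {C : Type u} [CommRing C] [IsDomain C] [Algebra A C] [Algebra.IsIntegral A C] :
    ConnectedSpace (PrimeSpectrum (C ⧸ I.map (algebraMap A C))) := by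
  let R := C ⧸ I.map (algebraMap A C)
  have hne : I.map (algebraMap A C) ≠ ⊤ := fun h => by
    have h1 := Groth.Agent.Lib.Henselian.Basic.map_le_jacobson_of_isIntegral (B := C)
      (HenselianRing.jac (I := I))
    rw [h, top_le_iff, Ideal.jacobson_eq_top_iff] at h1
    exact bot_ne_top h1
  have : Nontrivial R := Ideal.Quotient.nontrivial_iff.mpr hne
  have hid : ∀ e : R, IsIdempotentElem e → e = 0 ∨ e = 1 := by
    intro e he
    obtain ⟨c, hc, rfl⟩ := (Groth.Agent.Lib.Henselian.Pair.idempotents_bijOn I C).surjOn he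
    rcases IsIdempotentElem.iff_eq_zero_or_one.mp hc with rfl | rfl
    · exact Or.inl (map_zero _)
    · exact Or.inr (map_one _)
  refine connectedSpace_iff_clopen.mpr ⟨inferInstance, fun s hs => ?_⟩
  obtain ⟨e, he, rfl⟩ := PrimeSpectrum.exists_idempotent_basicOpen_eq_of_isClopen hs
  rcases hid e he with rfl | rfl
  · exact Or.inl (by simp)
  · exact Or.inr (by simp)

/-- The preimage of a connected closed set under a closed map with connected fibres. -/
theorem isConnected_preimage {W T : Type*} [TopologicalSpace W] [TopologicalSpace T] {h : W → T}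
    (hc : Continuous h) (hcl : IsClosedMap h) (hfib : ∀ t ∈ Set.range h, IsConnected (h ⁻¹' {t}))
    {S : Set T} (hS : IsConnected S) (hSc : IsClosed S) (hsub : S ⊆ Set.range h) :
    IsConnected (h ⁻¹' S) := by
  refine ⟨hS.nonempty.preimage' hsub, isPreconnected_closed_iff.mpr fun u v hu hv huv hune hvne => ?_⟩
  by_contra hne
  rw [Set.not_nonempty_iff_eq_empty] at hne
  have hu' : IsClosed (h '' (h ⁻¹' S ∩ u)) := hcl _ ((hSc.preimage hc).inter hu)
  have hv' : IsClosed (h '' (h ⁻¹' S ∩ v)) := hcl _ ((hSc.preimage hc).inter hv)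
  have hcov : S ⊆ h '' (h ⁻¹' S ∩ u) ∪ h '' (h ⁻¹' S ∩ v) := fun t ht => by
    obtain ⟨w, rfl⟩ := hsub ht
    rcases huv ht with h' | h'
    · exact Or.inl ⟨w, ⟨ht, h'⟩, rfl⟩
    · exact Or.inr ⟨w, ⟨ht, h'⟩, rfl⟩
  have hne' : ∀ a : Set W, (h ⁻¹' S ∩ a).Nonempty → (S ∩ h '' (h ⁻¹' S ∩ a)).Nonempty :=
    fun a ⟨w, hw⟩ => ⟨h w, hw.1, w, hw, rfl⟩
  obtain ⟨t, ht, ⟨a, ha, hat⟩, ⟨b, hb, hbt⟩⟩ := isPreconnected_closed_iff.mp hS.isPreconnected
    _ _ hu' hv' hcov (hne' u hune) (hne' v hvne)
  obtain ⟨c, hc', hcu, hcv⟩ := isPreconnected_closed_iff.mp (hfib t (hsub ht)).isPreconnected u v hu hv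
    (fun w hw => huv (show h w ∈ S by rw [show h w = t from hw]; exact ht))
    ⟨a, hat, ha.2⟩ ⟨b, hbt, hb.2⟩
  exact Set.eq_empty_iff_forall_notMem.mp hne c
    ⟨show h c ∈ S by rw [show h c = t from hc']; exact ht, hcu, hcv⟩

/-- The closed fibre meets the closure of a point in a connected set. -/
theorem isConnected_inter_closure {A : Type u} [CommRing A] (I : Ideal A) [HenselianRing A I]
    {X : Scheme.{u}} (f : X ⟶ Spec (CommRingCat.of A)) [IsProper f] (x : X) :
    _root_.IsConnected
      (f.base ⁻¹' PrimeSpectrum.zeroLocus (I : Set A) ∩ closure {x}) := by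
  let J := Scheme.IdealSheafData.vanishingIdeal (X := X) (Closeds.closure {x})
  let ι := J.subschemeι
  have hr : Set.range ι.base = closure {x} := by
    rw [Scheme.IdealSheafData.range_subschemeι]
    simp [J]
  obtain ⟨B, ψ, h, hψ, hfac, hcl, hfib⟩ :=
    Groth.Agent.Lib.Stein36.Data.exists_data
      (fun g _ => H34.Stein.geometricallyConnected_toNormalization g) (ι ≫ f)
  obtain ⟨w, hw⟩ : ∃ w, ι.base w = x := by
    have : x ∈ Set.range ι.base := hr ▸ subset_closure rfl
    exact this
  -- the image of `h` is the closure of `h w`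
  let p : PrimeSpectrum B := h.base w
  have hrange : Set.range h.base = PrimeSpectrum.zeroLocus (p.asIdeal : Set B) := by
    rw [← PrimeSpectrum.closure_singleton]
    refine subset_antisymm ?_ (closure_minimal (Set.singleton_subset_iff.mpr ⟨w, rfl⟩) hcl.isClosed_range)
    have hgen : closure ({w} : Set J.subscheme) = Set.univ := by
      rw [ι.isEmbedding.closure_eq_preimage_closure_image, Set.image_singleton, hw, ← hr]
      exact Set.preimage_range _
    rintro _ ⟨v, rfl⟩
    have := image_closure_subset_closure_image h.continuous (s := {w}) ⟨v, hgen ▸ Set.mem_univ v, rfl⟩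
    rwa [Set.image_singleton] at this
  let : Algebra A B := ψ.hom.toAlgebra
  have : Algebra.IsIntegral A B := Algebra.isIntegral_def.mpr hψ
  let C := B ⧸ p.asIdeal
  have : Algebra.IsIntegral A C := Algebra.IsIntegral.of_surjective
    (Ideal.Quotient.mkₐ A p.asIdeal) Ideal.Quotient.mk_surjective
  have := connectedSpace_quotient I (C := C)
  let q : B →+* C ⧸ I.map (algebraMap A C) := (Ideal.Quotient.mk _).comp (Ideal.Quotient.mk p.asIdeal)
  have hqs : Function.Surjective q := Ideal.Quotient.mk_surjective.comp Ideal.Quotient.mk_surjective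
  have hT : _root_.IsConnected (Set.range (PrimeSpectrum.comap q)) :=
    isConnected_range (PrimeSpectrum.continuous_comap q)
  have hker : RingHom.ker q = p.asIdeal ⊔ I.map ψ.hom := by
    change RingHom.ker ((Ideal.Quotient.mk _).comp (Ideal.Quotient.mk p.asIdeal)) = _
    rw [← RingHom.comap_ker, Ideal.mk_ker]
    have : I.map (algebraMap A C) = (I.map ψ.hom).map (Ideal.Quotient.mk p.asIdeal) := by
      rw [Ideal.map_map]
      rfl
    rw [this, Ideal.comap_map_of_surjective _ Ideal.Quotient.mk_surjective, ← RingHom.ker_eq_comap_bot,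
      Ideal.mk_ker, sup_comm]
  rw [range_comap_of_surjective _ q hqs, hker, PrimeSpectrum.zeroLocus_sup] at hT
  have hconn := isConnected_preimage h.continuous hcl (fun t _ => hfib t) hT
    ((PrimeSpectrum.isClosed_zeroLocus _).inter (PrimeSpectrum.isClosed_zeroLocus _))
    (fun t ht => hrange ▸ ht.1)
  have himg : ι.base '' (h.base ⁻¹' (PrimeSpectrum.zeroLocus (p.asIdeal : Set B) ∩
      PrimeSpectrum.zeroLocus (I.map ψ.hom : Set B))) =
      f.base ⁻¹' PrimeSpectrum.zeroLocus (I : Set A) ∩ closure {x} := by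
    have hkey : ∀ v, ι.base v ∈ f.base ⁻¹' PrimeSpectrum.zeroLocus (I : Set A) ↔
        h.base v ∈ PrimeSpectrum.zeroLocus (I.map ψ.hom : Set B) := by
      intro v
      have hv : f.base (ι.base v) = PrimeSpectrum.comap ψ.hom (h.base v) :=
        (congr($hfac v)).symm
      have h2 : h.base v ∈ PrimeSpectrum.comap ψ.hom ⁻¹' PrimeSpectrum.zeroLocus (I : Set A) ↔
          h.base v ∈ PrimeSpectrum.zeroLocus (I.map ψ.hom : Set B) := by
        rw [PrimeSpectrum.preimage_comap_zeroLocus]
        simp only [Ideal.map, PrimeSpectrum.zeroLocus_span]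
      refine Iff.trans ?_ h2
      change f.base (ι.base v) ∈ PrimeSpectrum.zeroLocus (I : Set A) ↔ _
      rw [hv]
      exact Iff.rfl
    ext y
    constructor
    · rintro ⟨v, ⟨-, hv⟩, rfl⟩
      exact ⟨(hkey v).mpr hv, hr ▸ ⟨v, rfl⟩⟩
    · rintro ⟨hy, hyc⟩
      rw [← hr] at hyc
      obtain ⟨v, rfl⟩ := hyc
      exact ⟨v, ⟨hrange ▸ ⟨v, rfl⟩, (hkey v).mp hy⟩, rfl⟩
  rw [← himg]
  exact hconn.image _ ι.continuous.continuousOn

end Groth.Agent.Lib.TopClosed50.Proper
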