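import Groth.Agent.Lib.TopClosed50.Pull
import Groth.Agent.Lib.WLocal.Components
import Mathlib.Topology.Sheaves.SheafCondition.UniqueGluing

/-!
# Sections over a closed subset meeting closures of points in connected sets
-/

universe u

open CategoryTheory CategoryTheory.Limits TopologicalSpace Opposite TopCat Topology

namespace Groth.Agent.Lib.TopClosed50.Spectral

open Groth.Agent.Lib.Spectral

variable {X : TopCat.{u}} [SpectralSpace X]

/-- Constructibly separating the generalisations of two compact sets. -/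
theorem exists_separate {K K' B U U' : Set X} (hK : IsCompact K) (hK' : IsCompact K')
    (hU : IsOpen U) (hU' : IsOpen U') (hKU : K ⊆ U) (hKU' : K' ⊆ U')
    (hB : IsClosed[constructibleTopology X] B)
    (h : ∀ x ∈ B, ∀ k ∈ K, ∀ k' ∈ K', x ⤳ k → ¬ x ⤳ k') :
    ∃ O O' : Set X, IsOpen O ∧ IsOpen O' ∧ K ⊆ O ∧ O ⊆ U ∧ K' ⊆ O' ∧ O' ⊆ U' ∧
      O ∩ O' ∩ B = ∅ := by
  let W := {p : Set X × Set X // IsOpen p.1 ∧ IsCompact p.1 ∧ K ⊆ p.1 ∧ p.1 ⊆ U ∧
    IsOpen p.2 ∧ IsCompact p.2 ∧ K' ⊆ p.2 ∧ p.2 ⊆ U'}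
  have : Nonempty W := by
    obtain ⟨a, ha, hao, hKa, haU⟩ := PrespectralSpace.exists_isCompact_and_isOpen_between hK hU hKU
    obtain ⟨b, hb, hbo, hKb, hbU⟩ :=
      PrespectralSpace.exists_isCompact_and_isOpen_between hK' hU' hKU'
    exact ⟨⟨(a, b), hao, ha, hKa, haU, hbo, hb, hKb, hbU⟩⟩
  have key : B ∩ ⋂ w : W, w.1.1 ∩ w.1.2 = ∅ := by
    refine Set.eq_empty_of_forall_notMem fun x ⟨hx, hxW⟩ => ?_
    have hmem := fun w : W => Set.mem_iInter.mp hxW w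
    obtain ⟨w₀⟩ := ‹Nonempty W›
    have h1 : ∀ {L : Set X} {V : Set X}, IsCompact L → IsOpen V → L ⊆ V →
        (∀ V' : Set X, IsOpen V' → IsCompact V' → L ⊆ V' → V' ⊆ V → x ∈ V') →
        ∃ k ∈ L, x ⤳ k := by
      intro L V hL hV hLV hall
      by_contra hne
      simp only [not_exists, not_and] at hne
      obtain ⟨V', hc, ho, hLV', hV'⟩ := PrespectralSpace.exists_isCompact_and_isOpen_between hL
        (hV.inter (isClosed_closure (s := ({x} : Set X))).isOpen_compl)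
        (fun k hk => ⟨hLV hk, fun hk' => hne k hk (specializes_iff_mem_closure.mpr hk')⟩)
      exact (hV' (hall V' ho hc hLV' fun y hy => (hV' hy).1)).2 (subset_closure rfl)
    obtain ⟨k, hk, hxk⟩ := h1 hK hU hKU fun V' ho hc hl hv =>
      (hmem ⟨(V', w₀.1.2), ho, hc, hl, hv, w₀.2.2.2.2.2⟩).1
    obtain ⟨k', hk', hxk'⟩ := h1 hK' hU' hKU' fun V' ho hc hl hv =>
      (hmem ⟨(w₀.1.1, V'), w₀.2.1, w₀.2.2.1, w₀.2.2.2.1, w₀.2.2.2.2.1, ho, hc, hl, hv⟩).2
    exact h x hx k hk k' hk' hxk hxk'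
  have hdir : Directed (· ⊇ ·) fun w : W => w.1.1 ∩ w.1.2 := by
    rintro ⟨⟨a, b⟩, hao, ha, hKa, haU, hbo, hb, hKb, hbU⟩
      ⟨⟨c, d⟩, hco, hc, hKc, hcU, hdo, hd, hKd, hdU⟩
    exact ⟨⟨(a ∩ c, b ∩ d), hao.inter hco, ha.inter_of_isOpen hc hao hco, fun x hx => ⟨hKa hx, hKc hx⟩,
      fun x hx => haU hx.1, hbo.inter hdo, hb.inter_of_isOpen hd hbo hdo,
      fun x hx => ⟨hKb hx, hKd hx⟩, fun x hx => hbU hx.1⟩,
      fun x hx => ⟨hx.1.1, hx.2.1⟩, fun x hx => ⟨hx.1.2, hx.2.2⟩⟩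
  obtain ⟨w, hw⟩ := @IsCompact.elim_directed_family_closed X (constructibleTopology X) B W _
    (Basic.isCompact_cons_of_isClosed hB) (fun w : W => w.1.1 ∩ w.1.2)
    (fun w => @IsClosed.inter X _ _ (constructibleTopology X) (Basic.isClosed_cons w.2.1 w.2.2.1)
      (Basic.isClosed_cons w.2.2.2.2.2.1 w.2.2.2.2.2.2.1)) key hdir
  exact ⟨w.1.1, w.1.2, w.2.1, w.2.2.2.2.2.1, w.2.2.2.1, w.2.2.2.2.1, w.2.2.2.2.2.2.2.1,
    w.2.2.2.2.2.2.2.2, by rw [Set.inter_comm]; exact hw⟩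

variable (F : TopCat.Sheaf (Type u) X)

/-- The locus where two sections agree. -/
def agree {U V : Opens X} (s : F.obj.obj (op U)) (t : F.obj.obj (op V)) : Set X :=
  {x | ∃ (hU : x ∈ U) (hV : x ∈ V), F.presheaf.germ U x hU s = F.presheaf.germ V x hV t}

omit [SpectralSpace X] in
theorem isOpen_agree {U V : Opens X} (s : F.obj.obj (op U)) (t : F.obj.obj (op V)) :
    IsOpen (agree F s t) := by
  rw [isOpen_iff_forall_mem_open]
  rintro x ⟨hU, hV, he⟩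
  obtain ⟨W, hW, i₁, i₂, h⟩ := F.presheaf.germ_eq x hU hV _ _ he
  refine ⟨W, fun y hy => ⟨i₁.le hy, i₂.le hy, ?_⟩, W.2, hW⟩
  rw [← TopCat.Presheaf.germ_res_apply F.presheaf i₁ y hy,
    ← TopCat.Presheaf.germ_res_apply F.presheaf i₂ y hy]
  exact congrArg _ h

variable {Z : Set X}

omit [SpectralSpace X] in
theorem exists_specializes (hconn : ∀ x : X, IsConnected (Z ∩ closure {x})) (x : X) :
    ∃ z ∈ Z, x ⤳ z := by
  obtain ⟨z, hz, hz'⟩ := (hconn x).1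
  exact ⟨z, hz, specializes_iff_mem_closure.mpr hz'⟩

omit [SpectralSpace X] in
/-- The germ at a point is constant on the points of `Z` in its closure. -/
theorem germ_eq_of_connected {n : ℕ} (U : Fin n → Opens X) (s : ∀ i, F.obj.obj (op (U i)))
    (hcov : ∀ z ∈ Z, ∃ i, z ∈ U i)
    (hagree : ∀ z ∈ Z, ∀ i j, z ∈ U i → z ∈ U j → z ∈ agree F (s i) (s j))
    {x : X} (hx : IsPreconnected (Z ∩ closure {x})) {i j : Fin n}
    (hi : ∃ z ∈ Z ∩ (U i : Set X), x ⤳ z) (hj : ∃ z ∈ Z ∩ (U j : Set X), x ⤳ z) :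
    x ∈ agree F (s i) (s j) := by
  obtain ⟨a, ⟨haZ, hai⟩, hxa⟩ := hi
  obtain ⟨b, ⟨hbZ, hbj⟩, hxb⟩ := hj
  have hxi : x ∈ U i := hxa.mem_open (U i).2 hai
  have hxj : x ∈ U j := hxb.mem_open (U j).2 hbj
  let gi := F.presheaf.germ (U i) x hxi (s i)
  let good : Fin n → Prop := fun k => ∃ h : x ∈ U k, F.presheaf.germ (U k) x h (s k) = gi
  by_contra hne
  have hC : Z ∩ closure {x} ⊆ (⋃ k ∈ {k | good k}, (U k : Set X)) ∪
      ⋃ k ∈ {k | ¬ good k}, (U k : Set X) := by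
    intro z hz
    obtain ⟨k, hk⟩ := hcov z hz.1
    by_cases hg : good k
    · exact Or.inl (Set.mem_biUnion hg hk)
    · exact Or.inr (Set.mem_biUnion hg hk)
  have hgi : good i := ⟨hxi, rfl⟩
  have hgj : ¬ good j := fun ⟨h, he⟩ => hne ⟨hxi, h, he.symm⟩
  obtain ⟨z, hz, hz₁, hz₂⟩ := hx _ _ (isOpen_biUnion fun k _ => (U k).2)
    (isOpen_biUnion fun k _ => (U k).2) hC
    ⟨a, ⟨haZ, hxa.mem_closure⟩, Set.mem_biUnion hgi hai⟩
    ⟨b, ⟨hbZ, hxb.mem_closure⟩, Set.mem_biUnion hgj hbj⟩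
  obtain ⟨k, hk, hzk⟩ := Set.mem_iUnion₂.mp hz₁
  obtain ⟨l, hl, hzl⟩ := Set.mem_iUnion₂.mp hz₂
  have hxz : x ⤳ z := specializes_iff_mem_closure.mpr hz.2
  obtain ⟨hxk, hxl, he⟩ := hxz.mem_open (isOpen_agree F (s k) (s l)) (hagree z hz.1 k l hzk hzl)
  obtain ⟨_, hek⟩ := hk
  exact hl ⟨hxl, he.symm.trans hek⟩

theorem bijective (hZ : IsClosed Z) (hconn : ∀ x : X, IsConnected (Z ∩ closure {x})) :
    Function.Bijective
      (((TopCat.Sheaf.pullbackPushforwardAdjunction (Type u)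
        (TopCat.ofHom ⟨(Subtype.val : Z → X), continuous_subtype_val⟩)).unit.app F).hom.app (op ⊤)) := by
  classical
  let f : TopCat.of Z ⟶ X := TopCat.ofHom ⟨(Subtype.val : Z → X), continuous_subtype_val⟩
  have hspec := exists_specializes hconn
  refine ⟨fun s s' h => ?_, fun t => ?_⟩
  · refine TopCat.Presheaf.section_ext F ⊤ s s' fun x _ => ?_
    obtain ⟨z, hz, hxz⟩ := hspec x
    have h1 : F.presheaf.germ ⊤ z (Opens.mem_top z) s = F.presheaf.germ ⊤ z (Opens.mem_top z) s' := by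
      refine (Pull.σ_bijective f F ⟨z, hz⟩).1 ?_
      exact (Pull.σ_germ f F ⟨z, hz⟩ ⊤ (Opens.mem_top z) s).trans
        ((congrArg _ h).trans (Pull.σ_germ f F ⟨z, hz⟩ ⊤ (Opens.mem_top z) s').symm)
    obtain ⟨_, _, he⟩ := hxz.mem_open (isOpen_agree F s s')
      (⟨Opens.mem_top z, Opens.mem_top z, h1⟩ : z ∈ agree F s s')
    exact he
  · choose W hW sW hsW using fun z : Z =>
      Pull.exists_local f F Topology.IsEmbedding.subtypeVal.isInducing t z
    -- compact shrinkings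
    choose U₀ hU₀ hzU₀ hU₀W using fun z : Z =>
      PrespectralSpace.exists_isCompact_and_isOpen_between (isCompact_singleton (x := (z : X)))
        (W z).2 (Set.singleton_subset_iff.mpr (hW z))
    obtain ⟨T', hT'⟩ := hZ.isCompact.elim_finite_subcover (fun z : Z => U₀ z)
      (fun z => hzU₀ z) (fun z hz => Set.mem_iUnion.mpr ⟨⟨z, hz⟩, (hU₀W ⟨z, hz⟩).1 rfl⟩)
    let m := T'.card
    let d : Fin m ≃ T' := T'.equivFin.symm
    let U : Fin m → Opens X := fun i => ⟨U₀ (d i).1, hzU₀ _⟩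
    have hUW : ∀ i, U i ≤ W (d i).1 := fun i => (hU₀W (d i).1).2
    let s : ∀ i, F.obj.obj (op (U i)) := fun i => F.obj.map (homOfLE (hUW i)).op (sW (d i).1)
    have hcov : ∀ z ∈ Z, ∃ i, z ∈ U i := by
      intro z hz
      obtain ⟨w, hw, hzw⟩ := Set.mem_iUnion₂.mp (hT' hz)
      refine ⟨d.symm ⟨w, hw⟩, ?_⟩
      change z ∈ U₀ (d (d.symm ⟨w, hw⟩)).1
      rw [Equiv.apply_symm_apply]
      exact hzw
    have hst : ∀ (i) (z : Z) (h : (z : X) ∈ U i), Pull.σ f F z (F.presheaf.germ (U i) z.1 h (s i)) =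
        (Pull.G f F).presheaf.germ ⊤ z (Opens.mem_top z) t := by
      intro i z h
      rw [hsW (d i).1 z (hUW i h), ← Pull.σ_germ f F z (W (d i).1) (hUW i h)]
      exact congrArg _ (TopCat.Presheaf.germ_res_apply F.presheaf (homOfLE (hUW i)) z.1 h (sW (d i).1))
    have hagree : ∀ z ∈ Z, ∀ i j, z ∈ U i → z ∈ U j → z ∈ agree F (s i) (s j) := fun z hz i j hi hj =>
      ⟨hi, hj, (Pull.σ_bijective f F ⟨z, hz⟩).1 ((hst i ⟨z, hz⟩ hi).trans (hst j ⟨z, hz⟩ hj).symm)⟩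
    -- separate
    have hsep : ∀ i j, ∃ O O' : Set X, IsOpen O ∧ IsOpen O' ∧ Z ∩ U i ⊆ O ∧ O ⊆ U i ∧
        Z ∩ U j ⊆ O' ∧ O' ⊆ U j ∧ O ∩ O' ∩ (((U i : Set X) ∩ U j) ∩ (agree F (s i) (s j))ᶜ) = ∅ := by
      intro i j
      refine exists_separate ((hU₀ (d i).1).inter_left hZ) ((hU₀ (d j).1).inter_left hZ)
        (U i).2 (U j).2 Set.inter_subset_right Set.inter_subset_right ?_ ?_
      · exact @IsClosed.inter X _ _ (constructibleTopology X)
          (@IsClosed.inter X _ _ (constructibleTopology X) (Basic.isClosed_cons (U i).2 (hU₀ _))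
            (Basic.isClosed_cons (U j).2 (hU₀ _)))
          (Basic.isClosed_cons_of_isClosed (isOpen_agree F _ _).isClosed_compl)
      · intro x hx a ha b hb hxa hxb
        exact hx.2 (germ_eq_of_connected F U s hcov hagree (hconn x).2 ⟨a, ha, hxa⟩ ⟨b, hb, hxb⟩)
    choose A B hAo hBo hKA hAU hKB hBU hAB using hsep
    let O : Fin m → Opens X := fun i =>
      ⟨(U i : Set X) ∩ ⋂ j, (A i j ∩ B j i), (U i).2.inter (isOpen_iInter_of_finite fun j => (hAo i j).inter (hBo j i))⟩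
    have hOU : ∀ i, O i ≤ U i := fun i x hx => hx.1
    have hZO : ∀ i, ∀ z ∈ Z, z ∈ U i → z ∈ O i := fun i z hz hzi =>
      ⟨hzi, Set.mem_iInter.mpr fun j => ⟨hKA i j ⟨hz, hzi⟩, hKB j i ⟨hz, hzi⟩⟩⟩
    let so : ∀ i, F.obj.obj (op (O i)) := fun i => F.obj.map (homOfLE (hOU i)).op (s i)
    have hcompat : TopCat.Presheaf.IsCompatible F.obj O so := by
      intro i j
      refine TopCat.Presheaf.section_ext F (O i ⊓ O j) _ _ fun x hx => ?_
      have hxA : x ∈ A i j := (Set.mem_iInter.mp hx.1.2 j).1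
      have hxB : x ∈ B i j := (Set.mem_iInter.mp hx.2.2 i).2
      have hag : x ∈ agree F (s i) (s j) := by
        by_contra hn
        exact Set.eq_empty_iff_forall_notMem.mp (hAB i j) x
          ⟨⟨hxA, hxB⟩, ⟨hx.1.1, hx.2.1⟩, hn⟩
      obtain ⟨h₁, h₂, he⟩ := hag
      refine (TopCat.Presheaf.germ_res_apply F.presheaf (Opens.infLELeft (O i) (O j)) x hx (so i)).trans ?_
      refine Eq.trans ?_
        (TopCat.Presheaf.germ_res_apply F.presheaf (Opens.infLERight (O i) (O j)) x hx (so j)).symm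
      exact (TopCat.Presheaf.germ_res_apply F.presheaf (homOfLE (hOU i)) x hx.1 (s i)).trans
        (he.trans (TopCat.Presheaf.germ_res_apply F.presheaf (homOfLE (hOU j)) x hx.2 (s j)).symm)
    have hOcov : (⊤ : Opens X) ≤ iSup O := fun x _ => by
      obtain ⟨z, hz, hxz⟩ := hspec x
      obtain ⟨i, hi⟩ := hcov z hz
      exact Opens.mem_iSup.mpr ⟨i, hxz.mem_open (O i).2 (hZO i z hz hi)⟩
    obtain ⟨σg, hσg, -⟩ := F.existsUnique_gluing' O ⊤ (fun i => homOfLE le_top) hOcov so hcompat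
    refine ⟨σg, TopCat.Presheaf.section_ext (Pull.G f F) ⊤ _ _ fun z _ => ?_⟩
    obtain ⟨i, hi⟩ := hcov z.1 z.2
    refine Eq.trans (Pull.σ_germ f F z ⊤ (Opens.mem_top z.1) σg).symm ?_
    rw [← hst i z hi]
    refine congrArg _ ?_
    have h2 := congrArg (F.presheaf.germ (O i) z.1 (hZO i z.1 z.2 hi)) (hσg i)
    refine Eq.trans (TopCat.Presheaf.germ_res_apply F.presheaf (homOfLE (le_top : O i ≤ ⊤)) z.1
      (hZO i z.1 z.2 hi) σg).symm (h2.trans ?_)
    exact TopCat.Presheaf.germ_res_apply F.presheaf (homOfLE (hOU i)) z.1 (hZO i z.1 z.2 hi) (s i)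

end Groth.Agent.Lib.TopClosed50.Spectral
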