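import Groth.Agent.Lib.TopClosed50.Pull
import Mathlib.Topology.Sheaves.LocalPredicate
import Mathlib.Topology.Order

/-!
# Consequences of bijectivity of restriction of sheaves to a closed subset
-/

universe u

open CategoryTheory CategoryTheory.Limits TopologicalSpace Opposite TopCat Topology

namespace Groth.Agent.Lib.TopClosed50.Clopen

variable {X : TopCat.{u}} (Z : Set X)

/-- Bijectivity of restriction of all sheaves. -/
def Bij : Prop := ∀ F : TopCat.Sheaf (Type u) X, Function.Bijective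
  (((TopCat.Sheaf.pullbackPushforwardAdjunction (Type u)
    (TopCat.ofHom ⟨(Subtype.val : Z → X), continuous_subtype_val⟩)).unit.app F).hom.app (op ⊤))

variable (T : Type u) [TopologicalSpace T]

/-- The sheaf of continuous functions to `T`. -/
noncomputable abbrev cts : TopCat.Sheaf (Type u) X :=
  TopCat.subsheafToTypes (TopCat.continuousLocal X T)

theorem germ_val {U V : Opens X} (x : X) (hU : x ∈ U) (hV : x ∈ V)
    (s : (cts (X := X) T).obj.obj (op U)) (t : (cts (X := X) T).obj.obj (op V))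
    (h : (cts (X := X) T).presheaf.germ U x hU s = (cts (X := X) T).presheaf.germ V x hV t) :
    s.1 ⟨x, hU⟩ = t.1 ⟨x, hV⟩ := by
  obtain ⟨W, hW, i₁, i₂, he⟩ := (cts (X := X) T).presheaf.germ_eq x hU hV _ _ h
  exact congrFun (congrArg Subtype.val he) ⟨x, hW⟩

theorem meets (h1 : Bij Z) {C : Set X} (hC : IsClosed C) (hne : C.Nonempty) : (C ∩ Z).Nonempty := by
  by_contra hdis
  rw [Set.not_nonempty_iff_eq_empty] at hdis
  let T : Type u := ULift.{u} Prop
  let f : TopCat.of Z ⟶ X := TopCat.ofHom ⟨(Subtype.val : Z → X), continuous_subtype_val⟩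
  have hcont : ∀ O : Opens X, Continuous fun x : (⊤ : Opens X) => ULift.up.{u} (x.1 ∈ O) := fun O =>
    continuous_uliftUp.comp (continuous_Prop.mpr (O.2.preimage continuous_subtype_val))
  let s : Opens X → (cts (X := X) T).obj.obj (op ⊤) := fun O => ⟨fun x => ULift.up (x.1 ∈ O), hcont O⟩
  obtain ⟨c, hc⟩ := hne
  have he : s ⊤ = s ⟨Cᶜ, hC.isOpen_compl⟩ := by
    refine (h1 (cts T)).1 (TopCat.Presheaf.section_ext (Pull.G f (cts T)) ⊤ _ _ fun z _ => ?_)
    have hz : z.1 ∈ Cᶜ := fun hzc => Set.eq_empty_iff_forall_notMem.mp hdis z.1 ⟨hzc, z.2⟩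
    refine (Pull.σ_germ f (cts T) z ⊤ (Opens.mem_top z.1) (s ⊤)).symm.trans
      (Eq.trans (congrArg _ ?_) (Pull.σ_germ f (cts T) z ⊤ (Opens.mem_top z.1) (s _)))
    refine TopCat.Presheaf.germ_ext _ (⟨Cᶜ, hC.isOpen_compl⟩ : Opens X) hz (homOfLE le_top)
      (homOfLE le_top) ?_
    refine Subtype.ext (funext fun x => ULift.ext _ _ (propext ?_))
    exact ⟨fun _ => x.2, fun _ => trivial⟩
  have := congrArg ULift.down (congrFun (congrArg Subtype.val he) ⟨c, Opens.mem_top c⟩)
  exact (Eq.mp (show (c ∈ (⊤ : Opens X)) = (c ∈ Cᶜ) from this) (Opens.mem_top c)) hc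

theorem exists_isClopen (h1 : Bij Z) (O O' : Opens X) (hcov : Z ⊆ (O : Set X) ∪ O')
    (hdis : ∀ z ∈ Z, z ∈ O → z ∈ O' → False) :
    ∃ S : Set X, IsClopen S ∧ ∀ z ∈ Z, z ∈ S ↔ z ∈ O := by
  classical
  let T : Type u := ULift.{u} Bool
  let f : TopCat.of Z ⟶ X := TopCat.ofHom ⟨(Subtype.val : Z → X), continuous_subtype_val⟩
  let W : Bool → Opens X := fun b => if b then O else O'
  let c : ∀ b, (cts (X := X) T).obj.obj (op (W b)) := fun b => ⟨fun _ => ULift.up b, continuous_const⟩
  let V : Bool → Opens (TopCat.of Z) := fun b => (Opens.map f).obj (W b)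
  let t : ∀ b, (Pull.G f (cts T)).obj.obj (op (V b)) := fun b => Pull.res f (cts T) (W b) (c b)
  have hV : (⊤ : Opens (TopCat.of Z)) ≤ iSup V := fun z _ => by
    rcases hcov z.2 with h | h
    · exact Opens.mem_iSup.mpr ⟨true, h⟩
    · exact Opens.mem_iSup.mpr ⟨false, h⟩
  have hcompat : TopCat.Presheaf.IsCompatible (Pull.G f (cts T)).obj V t := by
    intro a b
    by_cases hab : a = b
    · subst hab; rfl
    · refine TopCat.Presheaf.section_ext (Pull.G f (cts T)) (V a ⊓ V b) _ _ fun z hz => ?_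
      exfalso
      cases a <;> cases b <;> first
        | exact hab rfl
        | exact hdis z.1 z.2 hz.1 hz.2
        | exact hdis z.1 z.2 hz.2 hz.1
  obtain ⟨tg, htg, -⟩ := (Pull.G f (cts T)).existsUnique_gluing' V ⊤ (fun b => homOfLE le_top) hV t hcompat
  obtain ⟨s, hs⟩ := (h1 (cts T)).2 tg
  refine ⟨{x | (s.1 ⟨x, Opens.mem_top x⟩).down = true}, ?_, fun z hz => ?_⟩
  · have hcont : Continuous fun x : X => (s.1 ⟨x, Opens.mem_top x⟩).down :=
      continuous_uliftDown.comp (s.2.comp (Continuous.subtype_mk continuous_id _))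
    exact (isClopen_discrete ({true} : Set Bool)).preimage hcont
  · have key : ∀ b, z ∈ W b → s.1 ⟨z, Opens.mem_top z⟩ = ULift.up b := by
      intro b hb
      refine germ_val T z (Opens.mem_top z) hb s (c b) ((Pull.σ_bijective f (cts T) ⟨z, hz⟩).1 ?_)
      refine (Pull.σ_germ f (cts T) ⟨z, hz⟩ ⊤ (Opens.mem_top z) s).trans ?_
      refine Eq.trans ?_ (Pull.σ_germ f (cts T) ⟨z, hz⟩ (W b) hb (c b)).symm
      refine Eq.trans ?_ (congrArg ((Pull.G f (cts T)).presheaf.germ (V b) ⟨z, hz⟩ hb) (htg b))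
      refine Eq.trans ?_ (TopCat.Presheaf.germ_res_apply (Pull.G f (cts T)).presheaf
        (homOfLE (le_top : V b ≤ ⊤)) ⟨z, hz⟩ hb tg).symm
      exact congrArg _ hs
    constructor
    · intro h
      rcases hcov hz with h' | h'
      · exact h'
      · simp [key false h'] at h
    · intro h
      simp [key true h]

end Groth.Agent.Lib.TopClosed50.Clopen
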