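import Mathlib.Topology.Sheaves.Functors
import Mathlib.Topology.Sheaves.Stalks
import Mathlib.Topology.Sheaves.Sheafify
import Mathlib.Topology.Sheaves.SheafCondition.UniqueGluing

/-!
# Stalks of inverse images of sheaves of sets
-/

universe u

open CategoryTheory CategoryTheory.Limits TopologicalSpace Opposite TopCat

namespace Groth.Agent.Lib.TopClosed50.Pull

variable {Z X : TopCat.{u}} (f : Z ⟶ X) (F : TopCat.Sheaf (Type u) X)

/-- The inverse image. -/
noncomputable abbrev G : TopCat.Sheaf (Type u) Z := (TopCat.Sheaf.pullback (Type u) f).obj F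

/-- The unit on sections. -/
noncomputable abbrev res (U : Opens X) (s : F.obj.obj (op U)) : (G f F).obj.obj (op ((Opens.map f).obj U)) :=
  ((TopCat.Sheaf.pullbackPushforwardAdjunction (Type u) f).unit.app F).hom.app (op U) s

lemma unit_eq : (TopCat.Sheaf.pullbackPushforwardAdjunction (Type u) f).unit.app F ≫
      (TopCat.Sheaf.pushforward (Type u) f).map
        ((TopCat.Sheaf.pullbackIso (Type u) f).hom.app F) =
      (Functor.sheafPullbackConstruction.sheafAdjunctionContinuous (Opens.map f) (Type u)
        (Opens.grothendieckTopology X) (Opens.grothendieckTopology Z)).unit.app F :=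
  Adjunction.unit_leftAdjointUniq_hom_app (Functor.sheafAdjunctionContinuous (Opens.map f) (Type u)
        (Opens.grothendieckTopology X) (Opens.grothendieckTopology Z))
    (Functor.sheafPullbackConstruction.sheafAdjunctionContinuous (Opens.map f) (Type u)
        (Opens.grothendieckTopology X) (Opens.grothendieckTopology Z)) F

lemma constr_unit_eq : ((Functor.sheafPullbackConstruction.sheafAdjunctionContinuous (Opens.map f)
      (Type u) (Opens.grothendieckTopology X) (Opens.grothendieckTopology Z)).unit.app F).hom =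
      (TopCat.Presheaf.pullbackPushforwardAdjunction (Type u) f).unit.app F.obj ≫
        Functor.whiskerLeft (Opens.map f).op (CategoryTheory.toSheafify (Opens.grothendieckTopology Z)
          ((TopCat.Presheaf.pullback (Type u) f).obj F.obj)) := by
  change (sheafToPresheaf (Opens.grothendieckTopology X) (Type u)).map
    ((Functor.sheafPullbackConstruction.sheafAdjunctionContinuous (Opens.map f)
      (Type u) (Opens.grothendieckTopology X) (Opens.grothendieckTopology Z)).unit.app F) = _
  rw [Functor.sheafPullbackConstruction.sheafAdjunctionContinuous]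
  erw [Adjunction.map_restrictFullyFaithful_unit_app]
  simp
  erw [CategoryTheory.Functor.whiskerLeft_id, Category.id_comp, Category.comp_id]
  rfl

/-- The comparison of stalks. -/
noncomputable def σ (z : Z) : F.presheaf.stalk (f z) ⟶ (G f F).presheaf.stalk z :=
  (TopCat.Presheaf.stalkFunctor (Type u) (f z)).map
      ((TopCat.Sheaf.pullbackPushforwardAdjunction (Type u) f).unit.app F).hom ≫
    TopCat.Presheaf.stalkPushforward (Type u) f (G f F).obj z

lemma germ_σ (z : Z) (U : Opens X) (hU : f z ∈ U) :
    F.presheaf.germ U (f z) hU ≫ σ f F z =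
      ((TopCat.Sheaf.pullbackPushforwardAdjunction (Type u) f).unit.app F).hom.app (op U) ≫
        (G f F).presheaf.germ ((Opens.map f).obj U) z hU := by
  rw [σ]
  erw [TopCat.Presheaf.stalkFunctor_map_germ_assoc]
  erw [TopCat.Presheaf.stalkPushforward_germ]
  rfl

lemma σ_germ (z : Z) (U : Opens X) (hU : f z ∈ U) (s : F.obj.obj (op U)) :
    σ f F z (F.presheaf.germ U (f z) hU s) =
      (G f F).presheaf.germ ((Opens.map f).obj U) z hU (res f F U s) :=
  ConcreteCategory.congr_hom (germ_σ f F z U hU) s

instance isIso_σ (z : Z) : IsIso (σ f F z) := by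
  let P := (TopCat.Presheaf.pullback (Type u) f).obj F.obj
  let η := CategoryTheory.toSheafify (Opens.grothendieckTopology Z) P
  let e := ((TopCat.Sheaf.pullbackIso (Type u) f).hom.app F).hom
  have : IsIso e :=
    ((sheafToPresheaf _ _).mapIso ((TopCat.Sheaf.pullbackIso (Type u) f).app F)).isIso_hom
  have he : IsIso ((TopCat.Presheaf.stalkFunctor (Type u) z).map e) := inferInstance
  have hη : IsIso ((TopCat.Presheaf.stalkFunctor (Type u) z).map η) :=
    TopCat.Presheaf.stalkFunctor_map_unit_toSheafify_isIso (X := Z) z (Type u) P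
  have h : σ f F z ≫ (TopCat.Presheaf.stalkFunctor (Type u) z).map e =
      TopCat.Presheaf.stalkPullbackHom (Type u) f F.obj z ≫
        (TopCat.Presheaf.stalkFunctor (Type u) z).map η := by
    refine TopCat.Presheaf.stalk_hom_ext _ fun U hU => ?_
    ext s
    have h1 : e.app (op ((Opens.map f).obj U)) (res f F U s) =
        η.app (op ((Opens.map f).obj U))
          (((TopCat.Presheaf.pullbackPushforwardAdjunction (Type u) f).unit.app F.obj).app (op U) s) :=
      ConcreteCategory.congr_hom (congr_app
        ((congrArg (fun α => α.hom) (unit_eq f F)).trans (constr_unit_eq f F)) (op U)) s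
    change (TopCat.Presheaf.stalkFunctor (Type u) z).map e (σ f F z (F.presheaf.germ U (f z) hU s)) =
      (TopCat.Presheaf.stalkFunctor (Type u) z).map η
        (TopCat.Presheaf.stalkPullbackHom (Type u) f F.obj z (F.presheaf.germ U (f z) hU s))
    rw [σ_germ]
    refine (TopCat.Presheaf.stalkFunctor_map_germ_apply ((Opens.map f).obj U) z hU e _).trans ?_
    rw [h1]
    refine (TopCat.Presheaf.stalkFunctor_map_germ_apply ((Opens.map f).obj U) z hU η _).symm.trans ?_
    exact congrArg _ (ConcreteCategory.congr_hom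
      (TopCat.Presheaf.germ_stalkPullbackHom (Type u) f F.obj z U hU) s).symm
  have h2 : IsIso (TopCat.Presheaf.stalkPullbackHom (Type u) f F.obj z) :=
    (TopCat.Presheaf.stalkPullbackIso (Type u) f F.obj z).isIso_hom
  have h3 := @IsIso.comp_isIso _ _ _ _ _ _ _ h2 hη
  rw [← h] at h3
  exact @IsIso.of_isIso_comp_right _ _ _ _ _ (σ f F z) _ he h3

lemma σ_bijective (z : Z) : Function.Bijective (σ f F z) :=
  (isIso_iff_bijective _).1 inferInstance

/-- A section of the inverse image is locally the restriction of a section. -/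
lemma exists_local (hf : Topology.IsInducing f) (t : (G f F).obj.obj (op ⊤)) (z : Z) :
    ∃ (U : Opens X) (_ : f z ∈ U) (s : F.obj.obj (op U)), ∀ (z' : Z) (h : f z' ∈ U),
      (G f F).presheaf.germ ⊤ z' (Opens.mem_top z') t =
        (G f F).presheaf.germ ((Opens.map f).obj U) z' h (res f F U s) := by
  obtain ⟨a, ha⟩ := (σ_bijective f F z).2 ((G f F).presheaf.germ ⊤ z (Opens.mem_top z) t)
  obtain ⟨U, hU, s, rfl⟩ := F.presheaf.exists_germ_eq a
  rw [σ_germ] at ha
  obtain ⟨W, hW, i₁, i₂, he⟩ := (G f F).presheaf.germ_eq z hU (Opens.mem_top z) _ _ ha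
  obtain ⟨O, hO, hOW⟩ := hf.isOpen_iff.mp W.2
  refine ⟨U ⊓ ⟨O, hO⟩, ⟨hU, (Set.ext_iff.mp hOW z).mpr hW⟩, F.obj.map (homOfLE inf_le_left).op s,
    fun z' h => ?_⟩
  have hz' : z' ∈ W := (Set.ext_iff.mp hOW z').mp h.2
  have hn : res f F (U ⊓ ⟨O, hO⟩) (F.obj.map (homOfLE inf_le_left).op s) =
      (G f F).obj.map ((Opens.map f).map (homOfLE inf_le_left)).op (res f F U s) :=
    ConcreteCategory.congr_hom
      (((TopCat.Sheaf.pullbackPushforwardAdjunction (Type u) f).unit.app F).hom.naturality
        (homOfLE (inf_le_left : U ⊓ ⟨O, hO⟩ ≤ U)).op) s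
  rw [hn]
  refine Eq.trans ?_ (TopCat.Presheaf.germ_res_apply (G f F).presheaf
    ((Opens.map f).map (homOfLE inf_le_left)) z' h (res f F U s)).symm
  rw [← TopCat.Presheaf.germ_res_apply (G f F).presheaf i₂ z' hz',
    ← TopCat.Presheaf.germ_res_apply (G f F).presheaf i₁ z' hz']
  exact congrArg _ he.symm

end Groth.Agent.Lib.TopClosed50.Pull
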